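import Groth.Agent.L19.FinLocPush
import Groth.Agent.L18.NormFlat
import Groth.Agent.L13.CodimOneIso
import Groth.Prelude.Def_FlatMod2
import Mathlib.AlgebraicGeometry.Morphisms.FlatRank

/-! # Rank of the direct image of the structure sheaf -/

set_option autoImplicit false
set_option linter.style.haveILetI false
set_option backward.isDefEq.respectTransparency.types false
set_option backward.isDefEq.respectTransparency false

universe u

open CategoryTheory CategoryTheory.Limits AlgebraicGeometry TopologicalSpace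

noncomputable section

namespace Groth.L27.Deg

variable {X S : Scheme.{u}} (f : X ⟶ S)

theorem finrank_eq_of_free_nhd [IsFinite f] [Flat f] {U : S.Opens} {n : ℕ}
    (e : ((Coh.push f).obj (Coh.structureModule X)).restrict U.ι ≅ FlatMod.freeMod (↑U) n)
    {y : S} (hy : y ∈ U) : f.finrank y = n := by
  obtain ⟨s, hs⟩ := Groth.L17.FinLocBases.exists_isBasis _ e
  have hc := Groth.L18.NormFree.isGoodBasis_of_isBasis hs
  have hyW : y ∈ U.ι ''ᵁ ⊤ := ⟨⟨y, hy⟩, trivial, rfl⟩
  obtain ⟨_, ⟨V, hV, rfl⟩, hyV, hVW⟩ :=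
    S.isBasis_affineOpens.exists_subset_of_mem_open hyW (U.ι ''ᵁ ⊤).2
  replace hV : IsAffineOpen V := hV
  letI := (f.app V).hom.toAlgebra
  obtain ⟨b, -⟩ := hc.basis (V := V) hVW
  obtain ⟨t, rfl⟩ := hV.range_fromSpec.ge hyV
  have hsq := Groth.Agent.L13.CodimOne.isPullback_fromSpec f hV (hV.preimage f)
  haveI : Module.Finite Γ(S, V) Γ(X, f ⁻¹ᵁ V) := f.finite_app V hV
  haveI : Module.Free Γ(S, V) Γ(X, f ⁻¹ᵁ V) := Module.Free.of_basis b
  haveI : Nontrivial Γ(S, V) := PrimeSpectrum.nontrivial t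
  refine (Scheme.Hom.finrank_of_isPullback _ _ _ _ hsq t).symm.trans ?_
  refine (Scheme.Hom.finrank_SpecMap_algebraMap Γ(S, V) Γ(X, f ⁻¹ᵁ V) t).trans ?_
  rw [Module.rankAtStalk_eq_finrank_of_free]
  exact (Module.finrank_eq_card_basis b).trans (Fintype.card_fin n)

/-- A finite locally free morphism of constant rank has a locally free direct image of that rank. -/
theorem isFinLocFreeOfRank_push [IsFinite f] [Flat f] [LocallyOfFinitePresentation f] {n : ℕ}
    (h : ∀ y, f.finrank y = n) :
    FlatMod.IsFinLocFreeOfRank n ((Coh.push f).obj (Coh.structureModule X)) := fun y => by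
  obtain ⟨U, m, hy, ⟨e⟩⟩ := (Groth.L19.FinLocPush.isFinLocFree_push f
    ⟨inferInstance, inferInstance, inferInstance⟩).2 y
  obtain rfl : m = n := (finrank_eq_of_free_nhd f e hy).symm.trans (h y)
  exact ⟨U, hy, ⟨e⟩⟩

theorem finrank_eq_of_push [IsFinite f] [Flat f] {n : ℕ}
    (h : FlatMod.IsFinLocFreeOfRank n ((Coh.push f).obj (Coh.structureModule X))) (y : S) :
    f.finrank y = n := by
  obtain ⟨U, hy, ⟨e⟩⟩ := h y
  exact finrank_eq_of_free_nhd f e hy

end Groth.L27.Deg
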