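import Groth.Agent.L27.FEtGal.Galois
import Mathlib.RingTheory.Etale.Field
import Mathlib.AlgebraicGeometry.Morphisms.FlatRank

/-! # The cardinality of a geometric fibre is the rank -/

set_option autoImplicit false
set_option linter.style.haveILetI false
set_option backward.isDefEq.respectTransparency.types false

universe u

open CategoryTheory CategoryTheory.Limits AlgebraicGeometry

noncomputable section

namespace Groth.L27.Deg

open Groth.L27.FEtGal

variable {X : Scheme.{u}} {Ω : Type u} [Field Ω] [IsAlgClosed Ω] (ξ : Spec (CommRingCat.of Ω) ⟶ X)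

theorem card_points {P : Scheme.{u}} [IsAffine P] (q : P ⟶ Spec (CommRingCat.of Ω)) [IsFinite q]
    [AlgebraicGeometry.Etale q] : Nat.card P = q.finrank default := by
  haveI : IsFinite (P.isoSpec.inv ≫ q) := MorphismProperty.comp_mem _ _ _
    (inferInstanceAs (IsFinite P.isoSpec.inv)) inferInstance
  haveI : AlgebraicGeometry.Etale (P.isoSpec.inv ≫ q) := MorphismProperty.comp_mem _ _ _
    (inferInstanceAs (AlgebraicGeometry.Etale P.isoSpec.inv)) inferInstance
  let g := Spec.preimage (P.isoSpec.inv ≫ q)
  have hq : Spec.map g = P.isoSpec.inv ≫ q := Spec.map_preimage _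
  letI := g.hom.toAlgebra
  haveI : Module.Finite Ω Γ(P, ⊤) := (IsFinite.SpecMap_iff g).mp (by rw [hq]; infer_instance)
  haveI : Algebra.Etale Ω Γ(P, ⊤) := (HasRingHomProperty.Spec_iff (P := @AlgebraicGeometry.Etale)).mp
    (show AlgebraicGeometry.Etale (Spec.map g) by rw [hq]; infer_instance)
  haveI : Finite (PrimeSpectrum Γ(P, ⊤)) := by
    haveI : IsArtinianRing Γ(P, ⊤) := IsArtinianRing.of_finite Ω Γ(P, ⊤)
    infer_instance
  letI := Fintype.ofFinite (PrimeSpectrum Γ(P, ⊤))
  have h1 : Nat.card P = Nat.card (PrimeSpectrum Γ(P, ⊤)) :=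
    Nat.card_congr P.isoSpec.hom.homeomorph.toEquiv
  have h2 : q.finrank default = Module.finrank Ω Γ(P, ⊤) := by
    rw [← Scheme.Hom.finrank_comp_left_of_isIso P.isoSpec.inv q, ← hq]
    generalize (default : Spec (CommRingCat.of Ω)) = d
    refine (Scheme.Hom.finrank_SpecMap_algebraMap Ω Γ(P, ⊤) d).trans ?_
    rw [Module.rankAtStalk_eq_finrank_of_free]
    rfl
  rw [h1, h2, (Algebra.FormallyEtale.equivPiOfIsSepClosed Ω Γ(P, ⊤)).toLinearEquiv.finrank_eq,
    Module.finrank_pi, Nat.card_eq_fintype_card]

/-- The geometric fibre has as many points as the rank of the cover. -/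
theorem card_fiber (Y : FEt.Cat X) :
    Nat.card (FEt.fiberObj ξ Y) = (hm Y).finrank (ξ default) := by
  let p := hm Y
  haveI : IsFinite p := Y.prop.1
  haveI : AlgebraicGeometry.Etale p := Y.prop.2
  let q := pullback.snd p ξ
  haveI : IsFinite q := inferInstance
  haveI : AlgebraicGeometry.Etale q := inferInstance
  haveI : IsAffine (pullback p ξ) := isAffine_of_isAffineHom q
  refine Eq.trans ?_ ((card_points q).trans (Scheme.Hom.finrank_pullback_snd p ξ default))
  have e : ∀ s : FEt.fiberObj ξ Y, s.1 ≫ p = 𝟙 _ ≫ ξ := fun s => s.2.trans (Category.id_comp _).symm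
  refine Nat.card_eq_of_bijective
    (fun s : FEt.fiberObj ξ Y => pullback.lift s.1 (𝟙 _) (e s) default) ⟨fun s t hst => ?_, fun z => ?_⟩
  · have key : ∀ (c : Spec (CommRingCat.of Ω) ⟶ pullback p ξ), c ≫ q = 𝟙 _ → IsOpenImmersion c := by
      intro c hc
      haveI : AlgebraicGeometry.Etale (c ≫ q) := by rw [hc]; infer_instance
      haveI : AlgebraicGeometry.Etale c := AlgebraicGeometry.Etale.of_comp c q
      haveI : Mono c := (SplitMono.mk q hc).mono
      exact IsOpenImmersion.of_flat_of_mono c
    let cs := pullback.lift s.1 (𝟙 _) (e s)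
    let ct := pullback.lift t.1 (𝟙 _) (e t)
    haveI : IsOpenImmersion cs := key cs (pullback.lift_snd _ _ _)
    have hsub : Set.range ct ⊆ Set.range cs := by
      rintro _ ⟨a, rfl⟩
      obtain rfl : a = default := Subsingleton.elim _ _
      exact ⟨default, hst⟩
    have hl := IsOpenImmersion.lift_fac cs ct hsub
    have hl1 : IsOpenImmersion.lift cs ct hsub = 𝟙 _ := by
      have h := congrArg (· ≫ q) hl
      simp only [cs, ct, q, Category.assoc, pullback.lift_snd, Category.comp_id] at h
      exact h
    rw [hl1, Category.id_comp] at hl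
    have h := congrArg (· ≫ pullback.fst p ξ) hl
    simp only [cs, ct, pullback.lift_fst] at h
    exact Subtype.ext h
  · obtain ⟨c, hc, hcz⟩ := exists_fiber_pt q (𝟙 _) z (Subsingleton.elim _ _)
    refine ⟨⟨c ≫ pullback.fst p ξ, ?_⟩, ?_⟩
    · rw [Category.assoc, pullback.condition, ← Category.assoc]
      exact (congrArg (· ≫ ξ) hc).trans (Category.id_comp _)
    · refine Eq.trans ?_ hcz
      refine congrArg (fun m : Spec (CommRingCat.of Ω) ⟶ pullback p ξ => m default) ?_
      apply pullback.hom_ext
      · rw [pullback.lift_fst]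
      · rw [pullback.lift_snd]
        exact hc.symm

end Groth.L27.Deg
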