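import Groth.Agent.L27.Deg.FibCard
import Groth.Agent.L27.FEtGal.SplitFinite
import Groth.Agent.L27.FEtGal.Components
import Groth.Prelude.Def_Pi1
import Mathlib.Data.Fintype.CardEmbedding

/-! # The cover of orderings of the fibres, and its splitting property -/

set_option autoImplicit false
set_option linter.style.haveILetI false
set_option backward.isDefEq.respectTransparency.types false

universe u

open CategoryTheory CategoryTheory.Limits AlgebraicGeometry

noncomputable section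

namespace Groth.L27.Deg

open Groth.L27.FEtGal

/-- A cover with sections enumerating every geometric fibre is split. -/
theorem split_of_fibre_bijection {A : Scheme.{u}} (Z : FEt.Cat A) {n : ℕ}
    (s : Fin n → (A ⟶ Z.left)) (hs : ∀ i, s i ≫ Z.hom = 𝟙 A)
    (hb : ∀ (Ω : Type u) [Field Ω] [IsAlgClosed Ω] (ξ : Spec (CommRingCat.of Ω) ⟶ A),
      (∀ i j, ξ ≫ s i = ξ ≫ s j → i = j) ∧ ∀ t : FEt.fiberObj ξ Z, ∃ i, ξ ≫ s i = t.1) :
    Pi1.IsSplit Z := by
  let d : (∐ fun _ : Fin n => A) ⟶ A := Sigma.desc fun _ : Fin n => 𝟙 A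
  let D : FEt.Cat A := MorphismProperty.Over.mk ⊤ d ⟨isFinite_foldId n, etale_foldId⟩
  let θ : D ⟶ Z := MorphismProperty.Over.homMk (Sigma.desc s) (by
    show Sigma.desc s ≫ Z.hom = d
    refine Sigma.hom_ext _ _ fun i => ?_
    rw [Sigma.ι_desc_assoc, Sigma.ι_desc]
    exact hs i)
  haveI : IsIso θ := by
    refine isIso_of_fiber θ fun C _ hC => ?_
    obtain ⟨x, hx⟩ := hC
    obtain ⟨Ω, _, _, ξ, rfl⟩ := exists_geometric x
    refine ⟨Ω, inferInstance, inferInstance, ξ, hx, ?_⟩
    have hpt : ∀ w : FEt.fiberObj ξ D, ∃ i, w.1 = ξ ≫ Sigma.ι (fun _ : Fin n => A) i := by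
      intro w
      let w1 : Spec (CommRingCat.of Ω) ⟶ ∐ fun _ : Fin n => A := w.1
      obtain ⟨i, y, hy⟩ := (sigmaOpenCover fun _ : Fin n => A).exists_eq (w1 default)
      have hy' : Sigma.ι (fun _ : Fin n => A) i y = w1 default := hy
      have hsub : Set.range w1 ⊆ Set.range (Sigma.ι (fun _ : Fin n => A) i) := by
        rintro _ ⟨a, rfl⟩
        obtain rfl : a = default := Subsingleton.elim _ _
        exact ⟨y, hy'⟩
      refine ⟨i, ?_⟩
      have hl := IsOpenImmersion.lift_fac (Sigma.ι (fun _ : Fin n => A) i) w1 hsub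
      have hl1 : IsOpenImmersion.lift (Sigma.ι (fun _ : Fin n => A) i) w1 hsub = ξ := by
        exact (Category.comp_id _).symm.trans ((congrArg (_ ≫ ·) (Sigma.ι_desc (fun _ => 𝟙 A) i).symm).trans
          ((Category.assoc _ _ _).symm.trans ((congrArg (· ≫ d) hl).trans w.2)))
      rw [hl1] at hl
      exact hl.symm
    rw [isIso_iff_bijective]
    refine ⟨fun w w' h => ?_, fun t => ?_⟩
    · obtain ⟨i, hi⟩ := hpt w
      obtain ⟨j, hj⟩ := hpt w'
      have h' : w.1 ≫ Sigma.desc s = w'.1 ≫ Sigma.desc s := congrArg Subtype.val h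
      rw [hi, hj] at h'
      have key : ∀ k, (ξ ≫ Sigma.ι (fun _ : Fin n => A) k) ≫ Sigma.desc s = ξ ≫ s k := fun k =>
        (Category.assoc _ _ _).trans (congrArg (ξ ≫ ·) (Sigma.ι_desc _ _))
      have hij := (hb Ω ξ).1 i j ((key i).symm.trans (h'.trans (key j)))
      exact Subtype.ext (hi.trans ((congrArg (fun k => ξ ≫ Sigma.ι (fun _ : Fin n => A) k) hij).trans hj.symm))
    · obtain ⟨i, hi⟩ := (hb Ω ξ).2 t
      refine ⟨⟨ξ ≫ Sigma.ι (fun _ : Fin n => A) i, ?_⟩, Subtype.ext ?_⟩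
      · show (ξ ≫ Sigma.ι (fun _ : Fin n => A) i) ≫ d = ξ
        simp [d]
      · show (ξ ≫ Sigma.ι (fun _ : Fin n => A) i) ≫ Sigma.desc s = t.1
        simp [hi]
  haveI hiso : IsIso (Sigma.desc s) :=
    inferInstanceAs (IsIso ((MorphismProperty.Over.forget FEt.prop.{u} ⊤ A ⋙
      CategoryTheory.Over.forget A).map θ))
  let w : (∐ fun _ : Fin n => A) ≅ ∐ fun _ : ULift.{u} (Fin n) => A :=
    { hom := Sigma.desc fun i => Sigma.ι (fun _ : ULift.{u} (Fin n) => A) (ULift.up i)
      inv := Sigma.desc fun i => Sigma.ι (fun _ : Fin n => A) i.down }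
  refine ⟨ULift.{u} (Fin n), inferInstance, (asIso (Sigma.desc s)).symm ≪≫ w, fun i => ?_⟩
  simp [w, hs]

variable {S : Scheme.{u}}

/-- A cover whose rank is `n` has a cover of rank `n!` over which it splits. -/
theorem exists_split_factorial (Y : FEt.Cat S) (n : ℕ) (hn : ∀ y, (hm Y).finrank y = n) :
    ∃ T : FEt.Cat S, Surjective T.hom ∧ (∀ y, (hm T).finrank y = n.factorial) ∧
      Pi1.IsSplit ((FEt.restrict T.hom).obj Y) := by
  classical
  haveI : IsFinite (hm Y) := Y.prop.1
  haveI : AlgebraicGeometry.Etale (hm Y) := Y.prop.2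
  haveI := hasFiniteLimits (X := S)
  let P : FEt.Cat S := ∏ᶜ fun _ : Fin n => Y
  let π : Fin n → (P.left ⟶ Y.left) := fun i => (Pi.π (fun _ : Fin n => Y) i).left
  have hπ : ∀ i, π i ≫ hm Y = hm P := fun i => MorphismProperty.Over.w (Pi.π (fun _ : Fin n => Y) i)
  let Δ : Y.left ⟶ pullback (hm Y) (hm Y) := pullback.diagonal (hm Y)
  have hΔ : IsClopen (Set.range Δ) :=
    ⟨Δ.isClosedEmbedding.isClosed_range, Δ.isOpenEmbedding.isOpen_range⟩
  let m : Fin n → Fin n → (P.left ⟶ pullback (hm Y) (hm Y)) := fun i j =>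
    pullback.lift (π i) (π j) ((hπ i).trans (hπ j).symm)
  let C : Set P.left := ⋂ q : {q : Fin n × Fin n // q.1 ≠ q.2}, (m q.1.1 q.1.2 ⁻¹' Set.range Δ)ᶜ
  have hC : IsClopen C := isClopen_iInter_of_finite fun q =>
    (hΔ.preimage (m q.1.1 q.1.2).continuous).compl
  let U : P.left.Opens := ⟨C, hC.2⟩
  let ι : U.toScheme ⟶ P.left := U.ι
  haveI : IsOpenImmersion ι := inferInstanceAs (IsOpenImmersion U.ι)
  haveI : IsFinite (hm P) := P.prop.1
  haveI : AlgebraicGeometry.Etale (hm P) := P.prop.2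
  haveI : IsClosedImmersion ι := IsClosedImmersion.of_isPreimmersion ι (by
    rw [Scheme.Opens.range_ι]; exact hC.1)
  haveI : IsFinite (ι ≫ hm P) := MorphismProperty.comp_mem _ _ _ inferInstance inferInstance
  haveI : AlgebraicGeometry.Etale (ι ≫ hm P) := MorphismProperty.comp_mem _ _ _ inferInstance inferInstance
  let T : FEt.Cat S := MorphismProperty.Over.mk ⊤ (ι ≫ hm P) ⟨inferInstance, inferInstance⟩
  -- the fibres of `T` are the injections into the fibres of `Y`
  have fib : ∀ (Ω : Type u) [Field Ω] [IsAlgClosed Ω] (ξ : Spec (CommRingCat.of Ω) ⟶ S),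
      ∃ E : FEt.fiberObj ξ T → (Fin n ↪ FEt.fiberObj ξ Y), Function.Bijective E ∧
        ∀ t i, ((E t) i).1 = t.1 ≫ ι ≫ π i := by
    intro Ω _ _ ξ
    haveI := preservesFiniteLimits_fiber ξ
    have hl := isLimitFanMkObjOfIsLimit (FEt.fiber ξ) (fun _ : Fin n => Y) (Pi.π _)
      (productIsProduct fun _ : Fin n => Y)
    have mem_iff : ∀ (p : Spec (CommRingCat.of Ω) ⟶ P.left) (i j : Fin n),
        m i j (p default) ∈ Set.range Δ ↔ p ≫ π i = p ≫ π j := by
      intro p i j
      constructor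
      · rintro ⟨y, hy⟩
        have hsub : Set.range (p ≫ m i j) ⊆ Set.range Δ := by
          rintro _ ⟨a, rfl⟩
          obtain rfl : a = default := Subsingleton.elim _ _
          exact ⟨y, hy⟩
        have hl := IsOpenImmersion.lift_fac Δ (p ≫ m i j) hsub
        have h1 := congrArg (· ≫ pullback.fst _ _) hl
        have h2 := congrArg (· ≫ pullback.snd _ _) hl
        simp only [Δ, m, Category.assoc, pullback.lift_fst, pullback.lift_snd,
          pullback.diagonal_fst, pullback.diagonal_snd, Category.comp_id] at h1 h2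
        exact h1.symm.trans h2
      · intro h
        refine ⟨(p ≫ π i) default, ?_⟩
        have e : (p ≫ π i) ≫ Δ = p ≫ m i j := by
          apply pullback.hom_ext
          · simp [Δ, m]
            exact congrArg (p ≫ ·) (pullback.lift_fst _ _ _).symm
          · simp [Δ, m, h]
            exact congrArg (p ≫ ·) (pullback.lift_snd _ _ _).symm
        exact congrArg (fun f : Spec (CommRingCat.of Ω) ⟶ pullback (hm Y) (hm Y) => f default) e
    have hT : ∀ (t : FEt.fiberObj ξ T) (i : Fin n), (t.1 ≫ ι ≫ π i) ≫ hm Y = ξ := fun t i =>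
      (Category.assoc _ _ _).trans ((congrArg (t.1 ≫ ·)
        ((Category.assoc _ _ _).trans (congrArg (ι ≫ ·) (hπ i)))).trans t.2)
    have hinj : ∀ t : FEt.fiberObj ξ T,
        Function.Injective fun i => (⟨t.1 ≫ ι ≫ π i, hT t i⟩ : FEt.fiberObj ξ Y) := by
      intro t i j hij
      by_contra hne
      let t1 : Spec (CommRingCat.of Ω) ⟶ U.toScheme := t.1
      have h : (t1 ≫ ι) ≫ π i = (t1 ≫ ι) ≫ π j := by
        simp only [Category.assoc]
        exact congrArg Subtype.val hij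
      have hmem : ι (t1 default) ∈ C := (t1 default).2
      exact Set.mem_iInter.mp hmem ⟨(i, j), hne⟩ ((mem_iff (t1 ≫ ι) i j).mpr h)
    refine ⟨fun t => ⟨fun i => ⟨t.1 ≫ ι ≫ π i, hT t i⟩, hinj t⟩, ⟨fun t t' h => ?_, fun f => ?_⟩,
      fun t i => rfl⟩
    · let tP : ∀ r : FEt.fiberObj ξ T, FEt.fiberObj ξ P := fun r =>
        ⟨r.1 ≫ ι, (Category.assoc _ _ _).trans r.2⟩
      have e : (TypeCat.ofHom fun _ : PUnit.{u+1} => tP t) = TypeCat.ofHom fun _ => tP t' := by
        refine Fan.IsLimit.hom_ext hl _ _ fun i => ConcreteCategory.hom_ext _ _ fun _ => Subtype.ext ?_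
        have := congrArg (fun g : Fin n ↪ FEt.fiberObj ξ Y => (g i).1) h
        show (t.1 ≫ ι) ≫ π i = (t'.1 ≫ ι) ≫ π i
        simp only [Category.assoc]
        exact this
      have e' := congrArg Subtype.val (ConcreteCategory.congr_hom e PUnit.unit)
      exact Subtype.ext ((cancel_mono ι).mp e')
    · let c : PUnit.{u+1} ⟶ (FEt.fiber ξ).obj P :=
        Fan.IsLimit.lift hl fun i => TypeCat.ofHom fun _ => f i
      let p : FEt.fiberObj ξ P := c PUnit.unit
      have hp : ∀ i, p.1 ≫ π i = (f i).1 := fun i => by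
        have h := congrArg Subtype.val (ConcreteCategory.congr_hom
          (Fan.IsLimit.fac hl (fun i => TypeCat.ofHom fun _ : PUnit.{u+1} => f i) i) PUnit.unit)
        exact h
      have hmem : p.1 default ∈ C := Set.mem_iInter.mpr fun ⟨⟨i, j⟩, hne⟩ hd => by
        have h := (mem_iff p.1 i j).mp hd
        rw [hp, hp] at h
        exact hne (f.injective (Subtype.ext h))
      have hsub : Set.range p.1 ⊆ Set.range ι := by
        rintro _ ⟨a, rfl⟩
        obtain rfl : a = default := Subsingleton.elim _ _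
        exact ⟨⟨_, hmem⟩, rfl⟩
      let q : Spec (CommRingCat.of Ω) ⟶ U.toScheme := IsOpenImmersion.lift ι p.1 hsub
      have hq : q ≫ ι = p.1 := IsOpenImmersion.lift_fac ι p.1 hsub
      refine ⟨⟨q, ?_⟩, Function.Embedding.ext fun i => Subtype.ext ?_⟩
      · show q ≫ ι ≫ hm P = ξ
        exact (Category.assoc _ _ _).symm.trans ((congrArg (· ≫ hm P) hq).trans p.2)
      · show q ≫ ι ≫ π i = (f i).1
        exact (Category.assoc _ _ _).symm.trans ((congrArg (· ≫ π i) hq).trans (hp i))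
  have hcardY : ∀ (Ω : Type u) [Field Ω] [IsAlgClosed Ω] (ξ : Spec (CommRingCat.of Ω) ⟶ S),
      Nat.card (FEt.fiberObj ξ Y) = n := fun Ω _ _ ξ => (card_fiber ξ Y).trans (hn _)
  have hcard : ∀ y, (hm T).finrank y = n.factorial := by
    intro y
    obtain ⟨Ω, _, _, ξ, rfl⟩ := exists_geometric y
    obtain ⟨E, hE, -⟩ := fib Ω ξ
    haveI := fiber_finite ξ Y
    letI := Fintype.ofFinite (FEt.fiberObj ξ Y)
    rw [← card_fiber ξ T, Nat.card_eq_of_bijective E hE, Nat.card_eq_fintype_card,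
      Fintype.card_embedding_eq, Fintype.card_fin, ← Nat.card_eq_fintype_card, hcardY,
      Nat.descFactorial_self]
  haveI : IsFinite (hm T) := T.prop.1
  haveI : AlgebraicGeometry.Etale (hm T) := T.prop.2
  haveI : Surjective (hm T) := by
    refine ⟨fun y => ?_⟩
    obtain ⟨Ω, _, _, ξ, rfl⟩ := exists_geometric y
    obtain ⟨E, hE, -⟩ := fib Ω ξ
    haveI := fiber_finite ξ Y
    letI := Fintype.ofFinite (FEt.fiberObj ξ Y)
    obtain ⟨e⟩ := Function.Embedding.nonempty_of_card_le (α := Fin n) (β := FEt.fiberObj ξ Y)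
      (by rw [Fintype.card_fin, ← Nat.card_eq_fintype_card, hcardY])
    obtain ⟨t, -⟩ := hE.2 e
    exact ⟨t.1 default, congrArg (fun f : Spec (CommRingCat.of Ω) ⟶ S => f default) t.2⟩
  refine ⟨T, ‹Surjective (hm T)›, hcard, ?_⟩
  refine split_of_fibre_bijection ((FEt.restrict T.hom).obj Y)
    (fun i => pullback.lift (ι ≫ π i) (𝟙 T.left)
      (((Category.assoc _ _ _).trans (congrArg (ι ≫ ·) (hπ i))).trans (Category.id_comp _).symm))
    (fun i => pullback.lift_snd _ _ _) fun Ω _ _ ξ => ?_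
  let ξ' : Spec (CommRingCat.of Ω) ⟶ S := ξ ≫ hm T
  let t : FEt.fiberObj ξ' T := ⟨ξ, rfl⟩
  obtain ⟨E, hE, hval⟩ := fib Ω ξ'
  haveI := fiber_finite ξ' Y
  letI := Fintype.ofFinite (FEt.fiberObj ξ' Y)
  have hbij : Function.Bijective (E t) := (Fintype.bijective_iff_injective_and_card _).mpr
    ⟨(E t).injective, by rw [Fintype.card_fin, ← Nat.card_eq_fintype_card, hcardY]⟩
  refine ⟨fun i j h => ?_, fun z => ?_⟩
  · refine hbij.1 (Subtype.ext ?_)
    have h' := congrArg (· ≫ pullback.fst Y.hom T.hom) h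
    rw [hval, hval]
    exact (((Category.assoc _ _ _).trans (congrArg (ξ ≫ ·) (pullback.lift_fst _ _ _))).symm.trans h').trans
      ((Category.assoc _ _ _).trans (congrArg (ξ ≫ ·) (pullback.lift_fst _ _ _)))
  · obtain ⟨i, hi⟩ := hbij.2 (⟨z.1 ≫ pullback.fst Y.hom T.hom, by
      refine (Category.assoc _ _ _).trans ((congrArg (z.1 ≫ ·) pullback.condition).trans ?_)
      exact (Category.assoc _ _ _).symm.trans (congrArg (· ≫ T.hom) z.2)⟩ : FEt.fiberObj ξ' Y)
    refine ⟨i, pullback.hom_ext ?_ ?_⟩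
    · exact ((Category.assoc _ _ _).trans (congrArg (ξ ≫ ·) (pullback.lift_fst _ _ _))).trans
        ((hval t i).symm.trans (congrArg Subtype.val hi))
    · exact ((Category.assoc _ _ _).trans (congrArg (ξ ≫ ·) (pullback.lift_snd _ _ _))).trans
        ((Category.comp_id _).trans z.2.symm)

end Groth.L27.Deg
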